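import Mathlib.LinearAlgebra.TensorProduct.RightExactness
import Mathlib.LinearAlgebra.DirectSum.Finsupp
import Mathlib.LinearAlgebra.Basis.VectorSpace
import Mathlib.RingTheory.TensorProduct.Maps

/-!
# The condition "the coefficients lie in a subspace" is closed
-/

set_option autoImplicit false
universe u

open TensorProduct

namespace Groth.Agent.H15Magnet.DClosed

theorem exists_coef {k : Type u} [Field k] {P Q A : Type u} [AddCommGroup P] [Module k P] [AddCommGroup Q]
    [Module k Q] [CommRing A] [Algebra k A] (ι : P →ₗ[k] Q) (δ : A → Q ⊗[k] A) :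
    ∃ c : Ideal A, ∀ (R : Type u) [CommRing R] [Algebra k R] (q : A →ₐ[k] R),
      c ≤ RingHom.ker q.toRingHom ↔
        ∀ a, q.toLinearMap.lTensor Q (δ a) ∈ LinearMap.range (ι.rTensor R) := by
  classical
  let π := (LinearMap.range ι).mkQ
  let b := Module.Basis.ofVectorSpace k (Q ⧸ LinearMap.range ι)
  have coord : ∀ {R : Type u} [CommRing R] [Algebra k R] (w : (Q ⧸ LinearMap.range ι) ⊗[k] R),
      (∀ i, TensorProduct.lid k R ((b.coord i).rTensor R w) = 0) → w = 0 := by
    intro R _ _ w hw
    let E := (TensorProduct.congr b.repr (LinearEquiv.refl k R)).trans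
      (TensorProduct.finsuppScalarLeft k R (Module.Basis.ofVectorSpaceIndex k (Q ⧸ LinearMap.range ι)))
    refine E.injective (Finsupp.ext fun i => ?_)
    rw [map_zero, Finsupp.zero_apply, ← hw i]
    clear hw
    induction w using TensorProduct.induction_on with
    | zero => simp
    | tmul x r => simp [E, finsuppScalarLeft_apply_tmul_apply]
    | add x y hx hy => simp only [map_add, Finsupp.add_apply, hx, hy]
  let C : Module.Basis.ofVectorSpaceIndex k (Q ⧸ LinearMap.range ι) → A → A := fun i a =>
    TensorProduct.lid k A ((b.coord i).rTensor A (π.rTensor A (δ a)))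
  refine ⟨Ideal.span (Set.range fun p : _ × A => C p.1 p.2), fun R _ _ q => ?_⟩
  have hex : Function.Exact (ι.rTensor R) (π.rTensor R) :=
    rTensor_exact R (LinearMap.exact_map_mkQ_range ι) (Submodule.mkQ_surjective _)
  have hnat : ∀ i a, TensorProduct.lid k R ((b.coord i).rTensor R (π.rTensor R (q.toLinearMap.lTensor Q (δ a)))) =
      q (C i a) := by
    intro i a
    simp only [C]
    generalize δ a = v
    induction v using TensorProduct.induction_on with
    | zero => simp
    | tmul x r => simp [← map_smul]
    | add x y hx hy => simp only [map_add, hx, hy]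
  rw [Ideal.span_le, Set.range_subset_iff]
  constructor
  · intro h a
    rw [← LinearMap.exact_iff.1 hex, LinearMap.mem_ker]
    refine coord _ fun i => ?_
    rw [hnat]
    exact h (i, a)
  · intro h ⟨i, a⟩
    show q (C i a) = 0
    rw [← hnat, show π.rTensor R (q.toLinearMap.lTensor Q (δ a)) = 0 from (hex _).2 (h a)]
    simp

end Groth.Agent.H15Magnet.DClosed
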