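import Groth.Agent.H15Magnet.DClosed.Alg
import Groth.Agent.H15Magnet.FieldFactor
import Groth.Agent.H19Grp.SchDense
import Mathlib.AlgebraicGeometry.Pullbacks
import Mathlib.RingTheory.Flat.Basic
import Mathlib.AlgebraicGeometry.Morphisms.IsIso

/-!
# `D_X` for affine `X` is a closed subscheme of `X`
-/

set_option autoImplicit false
set_option linter.unusedSectionVars false
set_option linter.style.haveILetI false
set_option backward.isDefEq.respectTransparency false
set_option backward.isDefEq.respectTransparency.types false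
universe u

open CategoryTheory CategoryTheory.Limits MonoidalCategory CartesianMonoidalCategory MonObj AlgebraicGeometry
  Opposite
open Magnet
open scoped TensorProduct

noncomputable section

namespace Groth.Agent.H15Magnet.DClosed

variable {k : Type u} [Field k]

/-- The algebra structure of the functions of a `k`-scheme. -/
abbrev algTop (M : Over (Spec (CommRingCat.of k))) [IsAffine M.left] : Algebra k Γ(M.left, ⊤) :=
  (Spec.preimage (M.left.isoSpec.inv ≫ M.hom)).hom.toAlgebra

theorem specMap_algTop (M : Over (Spec (CommRingCat.of k))) [IsAffine M.left] :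
    letI := algTop M
    Spec.map (CommRingCat.ofHom (algebraMap k Γ(M.left, ⊤))) = M.left.isoSpec.inv ≫ M.hom :=
  Spec.map_preimage _

variable (k) in
/-- The affine test objects. -/
abbrev T (R : Type u) [CommRing R] [Algebra k R] : Over (Spec (CommRingCat.of k)) :=
  Over.mk (Spec.map (CommRingCat.ofHom (algebraMap k R)))

/-- A map of test objects. -/
def tmap {R R' : Type u} [CommRing R] [CommRing R'] [Algebra k R] [Algebra k R'] (q : R →ₐ[k] R') :
    T k R' ⟶ T k R :=
  Over.homMk (Spec.map (CommRingCat.ofHom q.toRingHom)) (by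
    show Spec.map _ ≫ Spec.map _ = Spec.map _
    rw [← Spec.map_comp, ← CommRingCat.ofHom_comp]
    exact congrArg (fun h => Spec.map (CommRingCat.ofHom h)) q.comp_algebraMap)

/-- An affine scheme as a test object. -/
def eT (M : Over (Spec (CommRingCat.of k))) [IsAffine M.left] :
    letI := algTop M
    T k Γ(M.left, ⊤) ≅ M :=
  letI := algTop M
  Over.isoMk M.left.isoSpec.symm (specMap_algTop M).symm

theorem eT_left (M : Over (Spec (CommRingCat.of k))) [IsAffine M.left] :
    (eT M).hom.left = M.left.isoSpec.inv := rfl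

section Chart

variable (M : Over (Spec (CommRingCat.of k))) [IsAffine M.left] (R : Type u) [CommRing R] [Algebra k R]

attribute [local instance] algTop

/-- `M ⊗ Spec R` is affine. -/
def chart : Spec (CommRingCat.of (Γ(M.left, ⊤) ⊗[k] R)) ⟶ (M ⊗ T k R).left :=
  (pullbackSpecIso k Γ(M.left, ⊤) R).inv ≫ ((eT M).hom ▷ T k R).left

instance : IsIso (chart M R) := by
  haveI : IsIso ((eT M).hom ▷ T k R).left :=
    inferInstanceAs (IsIso ((Over.forget _).map ((eT M).hom ▷ T k R)))
  exact IsIso.comp_isIso' inferInstance inferInstance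

theorem chart_fst : chart M R ≫ (fst M (T k R)).left =
    Spec.map (CommRingCat.ofHom Algebra.TensorProduct.includeLeftRingHom) ≫ M.left.isoSpec.inv := by
  rw [chart, Category.assoc, ← Over.comp_left, whiskerRight_fst, Over.comp_left, eT_left]
  show _ ≫ pullback.fst _ _ ≫ _ = _
  rw [pullbackSpecIso_inv_fst_assoc]

theorem chart_snd : chart M R ≫ (snd M (T k R)).left =
    Spec.map (CommRingCat.ofHom
      (Algebra.TensorProduct.includeRight (R := k) (A := Γ(M.left, ⊤)) (B := R)).toRingHom) := by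
  rw [chart, Category.assoc, ← Over.comp_left, whiskerRight_snd]
  exact pullbackSpecIso_inv_snd k Γ(M.left, ⊤) R

end Chart

theorem hom_ext_chart' {M : Over (Spec (CommRingCat.of k))} {R : Type u} [CommRing R] [Algebra k R]
    {W : Scheme.{u}} {f g : W ⟶ (M ⊗ T k R).left}
    (h1 : f ≫ (fst M (T k R)).left = g ≫ (fst M (T k R)).left)
    (h2 : f ≫ (snd M (T k R)).left = g ≫ (snd M (T k R)).left) : f = g :=
  pullback.hom_ext h1 h2

attribute [local instance] algTop

theorem appTop_commutes {G M : Over (Spec (CommRingCat.of k))} [IsAffine G.left] [IsAffine M.left]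
    (i : G ⟶ M) :
    i.left.appTop.hom.comp (algebraMap k Γ(M.left, ⊤)) = algebraMap k Γ(G.left, ⊤) := by
  apply_fun fun h => Spec.map (CommRingCat.ofHom h)
  · simp only [CommRingCat.ofHom_comp, Spec.map_comp, specMap_algTop]
    erw [Scheme.isoSpec_inv_naturality_assoc]
    rw [Over.w i]
  · intro a b h
    exact congrArg CommRingCat.Hom.hom (Spec.map_injective h)

/-- The map of functions. -/
def iota {G M : Over (Spec (CommRingCat.of k))} [IsAffine G.left] [IsAffine M.left] (i : G ⟶ M) :
    Γ(M.left, ⊤) →ₐ[k] Γ(G.left, ⊤) :=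
  { i.left.appTop.hom with commutes' := fun r => RingHom.congr_fun (appTop_commutes i) r }

theorem chart_whiskerRight {G M : Over (Spec (CommRingCat.of k))} [IsAffine G.left] [IsAffine M.left]
    (i : G ⟶ M) (R : Type u) [CommRing R] [Algebra k R] :
    chart G R ≫ (i ▷ T k R).left =
      Spec.map (CommRingCat.ofHom (Algebra.TensorProduct.map (iota i) (AlgHom.id k R)).toRingHom) ≫
        chart M R := by
  apply hom_ext_chart'
  · rw [Category.assoc, ← Over.comp_left, whiskerRight_fst, Over.comp_left, ← Category.assoc, chart_fst,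
      Category.assoc, Category.assoc, chart_fst, ← Spec.map_comp_assoc,
      ← Scheme.isoSpec_inv_naturality i.left, ← Spec.map_comp_assoc]
    congr 2
  · rw [Category.assoc, ← Over.comp_left, whiskerRight_snd, Category.assoc, chart_snd, chart_snd,
      ← Spec.map_comp]
    congr 1
    ext p
    simp

theorem chart_whiskerLeft (G : Over (Spec (CommRingCat.of k))) [IsAffine G.left]
    {R R' : Type u} [CommRing R] [CommRing R'] [Algebra k R] [Algebra k R'] (q : R →ₐ[k] R') :
    chart G R' ≫ (G ◁ tmap q).left =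
      Spec.map (CommRingCat.ofHom (Algebra.TensorProduct.map (AlgHom.id k Γ(G.left, ⊤)) q).toRingHom) ≫
        chart G R := by
  apply hom_ext_chart'
  · rw [Category.assoc, ← Over.comp_left, whiskerLeft_fst, Category.assoc, chart_fst, chart_fst,
      ← Spec.map_comp_assoc]
    congr 2
    ext p
    simp
  · rw [Category.assoc, ← Over.comp_left, whiskerLeft_snd, Over.comp_left, ← Category.assoc, chart_snd,
      Category.assoc, chart_snd]
    show Spec.map _ ≫ Spec.map _ = Spec.map _ ≫ Spec.map _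
    rw [← Spec.map_comp, ← Spec.map_comp]
    congr 1

variable {M G X : Over (Spec (CommRingCat.of k))} [MonObj M] [GrpObj G] (i : G ⟶ M) [IsMonHom i]
  [IsSchemeTheoreticallyDominant i.left] [QuasiCompact i.left]

theorem hom_ext_dense [IsSeparated X.hom] {Y : Over (Spec (CommRingCat.of k))} {φ ψ : M ⊗ Y ⟶ X}
    (h : (i ▷ Y) ≫ φ = (i ▷ Y) ≫ ψ) : φ = ψ := by
  haveI : Flat Y.hom := inferInstance
  haveI := isSTD_whiskerRight i Y
  exact Over.OverMorphism.ext (H19Grp.ext_of_ker_eq_bot _ (i ▷ Y).left.ker_eq_bot X.hom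
    ((Over.w φ).trans (Over.w ψ).symm) (congrArg CommaMorphism.left h))

variable (aX : AlgGrp.Action G X)

/-- The functor `D_X`. -/
abbrev D : (Over (Spec (CommRingCat.of k)))ᵒᵖ ⥤ Type u :=
  MonAct.eqvHom ((MonAct.regular M).restrict i) (MonAct.ofAction aX)

/-- `D_X → X`. -/
abbrev ev : D i aX ⟶ yoneda.obj X :=
  MonAct.eqvHom.evalAt ((MonAct.regular M).restrict i) (MonAct.ofAction aX) η[M]

theorem whiskerRight_of_mem {Y : Over (Spec (CommRingCat.of k))} (φ : (D i aX).obj (op Y)) :
    (i ▷ Y) ≫ φ.1 = (G ◁ (ev i aX).app (op Y) φ) ≫ aX.act := by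
  apply hom_ext_lift₂
  intro T' g t
  have h1 := (MonAct.mem_eqvHom_iff φ.1).1 φ.2 T' g (1 : T' ⟶ M) t
  rw [MonAct.lift_restrict_act, MonAct.lift_regular_act, _root_.mul_one] at h1
  rw [lift_whiskerRight_assoc, h1, lift_whiskerLeft_assoc]
  congr 2
  show lift (1 : T' ⟶ M) t ≫ φ.1 = t ≫ lift (toUnit Y ≫ η[M]) (𝟙 Y) ≫ φ.1
  rw [comp_lift_assoc, Category.comp_id, ← Category.assoc t, comp_toUnit]
  rfl

theorem mem_of_factor [IsSeparated X.hom] {Y : Over (Spec (CommRingCat.of k))} (φ : M ⊗ Y ⟶ X) (x : Y ⟶ X)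
    (h : (i ▷ Y) ≫ φ = (G ◁ x) ≫ aX.act) :
    ∃ φ' : (D i aX).obj (op Y), φ'.1 = φ ∧ (ev i aX).app (op Y) φ' = x := by
  have hpt : ∀ {T' : Over (Spec (CommRingCat.of k))} (g : T' ⟶ G) (t : T' ⟶ Y),
      lift (g ≫ i) t ≫ φ = lift g (t ≫ x) ≫ aX.act := fun g t => by
    rw [← lift_whiskerRight_assoc, h, lift_whiskerLeft_assoc]
  refine ⟨⟨φ, ?_⟩, rfl, ?_⟩
  · show _ = _
    haveI : Flat Y.hom := inferInstance
    haveI : Flat G.hom := inferInstance
    haveI := isSTD_whiskerRight i Y
    haveI : QuasiCompact (i ▷ Y).left :=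
      MorphismProperty.of_isPullback (P := @QuasiCompact) (isPullback_whiskerRight i Y) inferInstance
    -- both composites agree on the dense `G ⊗ (G ⊗ Y)`
    have hsq : IsPullback (snd G (G ⊗ Y)).left (G ◁ (i ▷ Y)).left (i ▷ Y).left (snd G (M ⊗ Y)).left := by
      refine IsPullback.of_bot (v₂₁ := (fst G (M ⊗ Y)).left) (v₂₂ := (M ⊗ Y).hom) (h₃₁ := G.hom) ?_ ?_
        (IsPullback.of_hasPullback G.hom (M ⊗ Y).hom).flip
      · rw [← Over.comp_left, whiskerLeft_fst, Over.w (i ▷ Y)]
        exact (IsPullback.of_hasPullback G.hom (G ⊗ Y).hom).flip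
      · show (snd G (G ⊗ Y)).left ≫ (i ▷ Y).left = (G ◁ (i ▷ Y)).left ≫ (snd G (M ⊗ Y)).left
        rw [← Over.comp_left, ← Over.comp_left, whiskerLeft_snd]
    haveI : Flat (snd G (M ⊗ Y)).left := inferInstanceAs (Flat (pullback.snd G.hom (M ⊗ Y).hom))
    haveI : IsSchemeTheoreticallyDominant (G ◁ (i ▷ Y)).left := .of_isPullback hsq
    apply Over.OverMorphism.ext
    refine H19Grp.ext_of_ker_eq_bot _ (G ◁ (i ▷ Y)).left.ker_eq_bot X.hom
      ((Over.w _).trans (Over.w _).symm) (congrArg CommaMorphism.left (?_ : (G ◁ (i ▷ Y)) ≫ _ = (G ◁ (i ▷ Y)) ≫ _))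
    apply hom_ext_lift₂
    intro T' g z
    rw [← lift_comp_fst_snd z]
    simp only [lift_whiskerLeft_assoc, lift_whiskerRight, MonAct.lift_prod_act_assoc, MonAct.lift_restrict_act,
      MonAct.lift_regular_act, MonAct.lift_trivial_act, MonAct.ofAction_act, ← MonObj.mul_comp, hpt]
    exact (MonAct.ofAction aX).lift_mul_act g _ _
  · show lift (toUnit Y ≫ η[M]) (𝟙 Y) ≫ φ = x
    rw [← IsMonHom.one_hom i, ← Category.assoc, hpt, Category.id_comp]
    exact (congrArg (fun g => lift g x ≫ aX.act) (Hom.one_def (M := G)).symm).trans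
      ((MonAct.ofAction aX).lift_one_act x)

variable [IsAffine M.left] [IsAffine G.left] [IsAffine X.left]

theorem exists_criterion : ∃ c : Ideal Γ(X.left, ⊤),
    ∀ (R : Type u) [CommRing R] [Algebra k R] (q : Γ(X.left, ⊤) →ₐ[k] R),
      c ≤ RingHom.ker q.toRingHom ↔
        ∃ φ : M ⊗ T k R ⟶ X, (i ▷ T k R) ≫ φ = (G ◁ (tmap q ≫ (eT X).hom)) ≫ aX.act := by
  obtain ⟨δ, hδ⟩ := Spec.map_surjective
    (chart G Γ(X.left, ⊤) ≫ ((G ◁ (eT X).hom) ≫ aX.act).left ≫ X.left.isoSpec.hom)
  obtain ⟨c, hc⟩ := exists_coef (iota i).toLinearMap δ.hom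
  refine ⟨c, fun R _ _ q => ?_⟩
  let qq := Algebra.TensorProduct.map (AlgHom.id k Γ(G.left, ⊤)) q
  let ii := Algebra.TensorProduct.map (iota i) (AlgHom.id k R)
  have hι : Function.Injective (iota i) := i.left.app_injective ⊤
  have hii : Function.Injective ii :=
    Module.Flat.rTensor_preserves_injective_linearMap (iota i).toLinearMap hι
  have hω : chart G R ≫ ((G ◁ (tmap q ≫ (eT X).hom)) ≫ aX.act).left ≫ X.left.isoSpec.hom =
      Spec.map (δ ≫ CommRingCat.ofHom qq.toRingHom) := by
    rw [MonoidalCategory.whiskerLeft_comp, Category.assoc, Over.comp_left, Category.assoc,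
      ← Category.assoc (chart G R), chart_whiskerLeft, Category.assoc, ← hδ, ← Spec.map_comp]
  rw [hc]
  constructor
  · intro h
    let θ : Γ(X.left, ⊤) →+* Γ(G.left, ⊤) ⊗[k] R := qq.toRingHom.comp δ.hom
    let e := RingEquiv.ofBijective ii.toRingHom.rangeRestrict
      ⟨fun a b hab => hii (congrArg Subtype.val hab), ii.toRingHom.rangeRestrict_surjective⟩
    let ψ : Γ(X.left, ⊤) →+* Γ(M.left, ⊤) ⊗[k] R :=
      e.symm.toRingHom.comp (θ.codRestrict ii.toRingHom.range h)
    have hψ : ii.toRingHom.comp ψ = θ := RingHom.ext fun a =>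
      congrArg Subtype.val (e.apply_symm_apply _)
    let f : (M ⊗ T k R).left ⟶ X.left := inv (chart M R) ≫ Spec.map (CommRingCat.ofHom ψ) ≫ X.left.isoSpec.inv
    have hf : (i ▷ T k R).left ≫ f = ((G ◁ (tmap q ≫ (eT X).hom)) ≫ aX.act).left := by
      rw [← cancel_epi (chart G R), ← cancel_mono X.left.isoSpec.hom]
      simp only [f, Category.assoc]
      rw [hω, ← Category.assoc (chart G R), chart_whiskerRight]
      simp only [Category.assoc, IsIso.hom_inv_id_assoc, Iso.inv_hom_id, Category.comp_id,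
        ← Spec.map_comp, ← CommRingCat.ofHom_comp]
      congr 1
      exact CommRingCat.hom_ext hψ
    have hw : f ≫ X.hom = (M ⊗ T k R).hom := by
      rw [← cancel_epi (chart M R)]
      obtain ⟨α, hα⟩ := Spec.map_surjective (chart M R ≫ f ≫ X.hom)
      obtain ⟨β, hβ⟩ := Spec.map_surjective (chart M R ≫ (M ⊗ T k R).hom)
      rw [← hα, ← hβ]
      have e1 : chart G R ≫ (i ▷ T k R).left ≫ f ≫ X.hom = chart G R ≫ (G ⊗ T k R).hom := by
        rw [← Category.assoc (i ▷ T k R).left f, hf, Over.w]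
      have e2 : chart G R ≫ (i ▷ T k R).left ≫ (M ⊗ T k R).hom = chart G R ≫ (G ⊗ T k R).hom := by
        rw [Over.w]
      rw [← Category.assoc, chart_whiskerRight, Category.assoc] at e1 e2
      have h' : Spec.map (α ≫ CommRingCat.ofHom ii.toRingHom) = Spec.map (β ≫ CommRingCat.ofHom ii.toRingHom) := by
        rw [Spec.map_comp, Spec.map_comp, hα, hβ]
        exact e1.trans e2.symm
      congr 1
      exact CommRingCat.hom_ext (RingHom.ext fun r => hii (RingHom.congr_fun
        (congrArg CommRingCat.Hom.hom (Spec.map_injective h')) r))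
    exact ⟨Over.homMk f hw, Over.OverMorphism.ext hf⟩
  · rintro ⟨φ, hφ⟩ a
    obtain ⟨ψ, hψ⟩ := Spec.map_surjective (chart M R ≫ φ.left ≫ X.left.isoSpec.hom)
    have h : δ ≫ CommRingCat.ofHom qq.toRingHom = ψ ≫ CommRingCat.ofHom ii.toRingHom := by
      refine Spec.map_injective ?_
      rw [← hω, ← hφ, Over.comp_left, Category.assoc, ← Category.assoc (chart G R), chart_whiskerRight,
        Category.assoc, Spec.map_comp, hψ]
    exact ⟨ψ.hom a, (RingHom.congr_fun (congrArg CommRingCat.Hom.hom h) a).symm⟩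

set_option maxHeartbeats 1000000 in
theorem exists_closed : ∃ (Z : Over (Spec (CommRingCat.of k))) (j : Z ⟶ X) (e : (D i aX).RepresentableBy Z),
    IsClosedImmersion j.left ∧ IsAffine Z.left ∧
      ∀ (Y : Over (Spec (CommRingCat.of k))) (z : Y ⟶ Z), (ev i aX).app (op Y) (e.homEquiv z) = z ≫ j := by
  obtain ⟨c, hc⟩ := exists_criterion i aX
  let A := Γ(X.left, ⊤)
  let Z := T k (A ⧸ c)
  let j : Z ⟶ X := tmap (Ideal.Quotient.mkₐ k c) ≫ (eT X).hom
  haveI : IsClosedImmersion (tmap (Ideal.Quotient.mkₐ k c)).left :=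
    IsClosedImmersion.spec_of_surjective _ Ideal.Quotient.mk_surjective
  haveI : IsIso (eT X).hom.left := inferInstanceAs (IsIso ((Over.forget _).map (eT X).hom))
  haveI hjc : IsClosedImmersion j.left := by
    show IsClosedImmersion ((tmap (Ideal.Quotient.mkₐ k c)).left ≫ (eT X).hom.left)
    infer_instance
  haveI : Mono j := mono_of_left j
  haveI : IsSeparated X.hom := inferInstance
  obtain ⟨φ₀, hφ₀⟩ := (hc _ (Ideal.Quotient.mkₐ k c)).1 (le_of_eq Ideal.mk_ker.symm)
  obtain ⟨φZ, -, hev⟩ := mem_of_factor i aX φ₀ j hφ₀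
  have hnat : ∀ {Y : Over (Spec (CommRingCat.of k))} (z : Y ⟶ Z),
      (ev i aX).app (op Y) ((D i aX).map z.op φZ) = z ≫ j := fun z => by
    have h := ConcreteCategory.congr_hom ((ev i aX).naturality z.op) φZ
    simp only [types_comp_apply] at h
    exact h.trans (congrArg (z ≫ ·) hev)
  have hinj : ∀ {Y : Over (Spec (CommRingCat.of k))} (φ φ' : (D i aX).obj (op Y)),
      (ev i aX).app (op Y) φ = (ev i aX).app (op Y) φ' → φ = φ' := fun φ φ' h =>
    Subtype.ext (hom_ext_dense i (by rw [whiskerRight_of_mem, whiskerRight_of_mem, h]))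
  have hlift : ∀ {Y : Over (Spec (CommRingCat.of k))} (φ : (D i aX).obj (op Y)),
      ∃ z : Y ⟶ Z, z ≫ j = (ev i aX).app (op Y) φ := by
    intro Y φ
    let x : Y ⟶ X := (ev i aX).app (op Y) φ
    have hloc : ∀ n, ∃ l : Y.left.affineCover.X n ⟶ Z.left, l ≫ j.left = Y.left.affineCover.f n ≫ x.left := by
      intro n
      obtain ⟨R, hR⟩ : ∃ R : CommRingCat.{u}, Nonempty (Spec R ≅ Y.left.affineCover.X n) := ⟨_, ⟨Iso.refl _⟩⟩
      obtain ⟨e⟩ := hR
      letI : Algebra k R := (Spec.preimage (e.hom ≫ Y.left.affineCover.f n ≫ Y.hom)).hom.toAlgebra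
      let t : T k R ⟶ Y := Over.homMk (e.hom ≫ Y.left.affineCover.f n) (by
        show (e.hom ≫ Y.left.affineCover.f n) ≫ Y.hom = Spec.map (CommRingCat.ofHom (algebraMap k R))
        exact (Category.assoc _ _ _).trans (Spec.map_preimage _).symm)
      obtain ⟨q₀, hq₀⟩ := Spec.map_surjective ((t ≫ x).left ≫ X.left.isoSpec.hom)
      have hq₁ : q₀.hom.comp (algebraMap k A) = algebraMap k R := by
        refine congrArg CommRingCat.Hom.hom (Spec.map_injective ?_ :
          CommRingCat.ofHom (q₀.hom.comp (algebraMap k A)) = CommRingCat.ofHom (algebraMap k R))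
        rw [CommRingCat.ofHom_comp, CommRingCat.ofHom_hom, Spec.map_comp, specMap_algTop, hq₀, Category.assoc,
          Iso.hom_inv_id_assoc]
        exact Over.w (t ≫ x)
      let q : A →ₐ[k] R := { q₀.hom with commutes' := fun r => RingHom.congr_fun hq₁ r }
      have hq : tmap q ≫ (eT X).hom = t ≫ x := by
        apply Over.OverMorphism.ext
        show Spec.map q₀ ≫ X.left.isoSpec.inv = (t ≫ x).left
        rw [hq₀, Category.assoc, Iso.hom_inv_id, Category.comp_id]
      have hcq : c ≤ RingHom.ker q.toRingHom := (hc R q).2 ⟨((D i aX).map t.op φ).1, by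
        rw [whiskerRight_of_mem, hq]
        congr 2
        exact (ConcreteCategory.congr_hom ((ev i aX).naturality t.op) φ)⟩
      refine ⟨e.inv ≫ Spec.map (CommRingCat.ofHom (Ideal.Quotient.lift c q.toRingHom hcq)), ?_⟩
      show (e.inv ≫ _) ≫ Spec.map _ ≫ X.left.isoSpec.inv = _
      have h1 : (tmap q).left ≫ X.left.isoSpec.inv = (t ≫ x).left := congrArg CommaMorphism.left hq
      rw [Category.assoc, ← Spec.map_comp_assoc, ← CommRingCat.ofHom_comp]
      show e.inv ≫ (tmap q).left ≫ X.left.isoSpec.inv = _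
      rw [h1]
      show e.inv ≫ (e.hom ≫ Y.left.affineCover.f n) ≫ x.left = _
      rw [Category.assoc, Iso.inv_hom_id_assoc]
    choose l hl using hloc
    have hcomp : ∀ a b, pullback.fst (Y.left.affineCover.f a) (Y.left.affineCover.f b) ≫ l a =
        pullback.snd (Y.left.affineCover.f a) (Y.left.affineCover.f b) ≫ l b := fun a b => by
      rw [← cancel_mono j.left, Category.assoc, Category.assoc, hl, hl, pullback.condition_assoc]
    let z₀ := Y.left.affineCover.glueMorphisms l hcomp
    have hz₀ : z₀ ≫ j.left = x.left := Y.left.affineCover.hom_ext _ _ fun n => by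
      rw [Scheme.Cover.ι_glueMorphisms_assoc, hl]
    exact ⟨Over.homMk z₀ (by rw [← Over.w j, reassoc_of% hz₀, Over.w x]), Over.OverMorphism.ext hz₀⟩
  refine ⟨Z, j,
    { homEquiv := fun {Y} => Equiv.ofBijective (fun z => (D i aX).map z.op φZ)
        ⟨fun z z' h => (cancel_mono j).1 ((hnat z).symm.trans ((congrArg _ h).trans (hnat z'))),
          fun φ => ⟨(hlift φ).choose, hinj _ _ ((hnat _).trans (hlift φ).choose_spec)⟩⟩
      homEquiv_comp := fun g f => by
        simp only [Equiv.ofBijective_apply, op_comp]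
        exact (FunctorToTypes.map_comp_apply _ _ _ _) },
    hjc, inferInstanceAs (IsAffine (Spec _)), fun Y z => hnat z⟩

end Groth.Agent.H15Magnet.DClosed
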